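import Mathlib

/-! A kernel check: numbers in `[300, 5619)` are coprime to many of the primes below `300`. -/

set_option autoImplicit false

namespace Cfsg.Agent.Lib.Zsig.PrimMid

/-- Some small primes. -/
def pp : List ℕ := [2,3,5,7,11,13,17,19,23,29,31,37,41,43,47,53,59,61,67,71,73,79,83,89,97,101,103,107,109,113,127,131,137,139,149,151,157,163,167,173,179,181,191,193,197,199,211,223,227,229,233,239,241,251,257,263,269,271,277,281,283,293]

theorem totient_mid : (List.range' 300 5319).all (fun e =>
    decide (54 ≤ (pp.filter (Nat.Coprime e)).length)) = true := by decide +kernel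

end Cfsg.Agent.Lib.Zsig.PrimMid
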