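import Cfsg.Agent.Lib.Zsig.PrimPart
import Cfsg.Agent.Lib.Zsig.PrimMid

/-!
# Primitive parts of `q ^ e - 1`: the finite tables and the core theorem
-/

set_option autoImplicit false

namespace Cfsg.Agent.Lib.Zsig.PrimCore

open Cfsg.Agent.Lib.Zsig.PrimPart
open Cfsg.Agent.Lib.Zsig.PrimMid
open Cfsg.Agent.Lib.Classical.Spectra.Ppd

/-- The thirteen exceptional pairs. -/
abbrev L13 : List (ℕ × ℕ) :=
  [(2, 6), (2, 4), (2, 10), (2, 12), (2, 18), (3, 4), (3, 6), (5, 6), (2, 3), (2, 8), (2, 20), (4, 3), (4, 6)]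

/-- Explicit primitive divisors `(q, e, m)`. -/
def table : List (ℕ × ℕ × ℕ) := [(3,3,13), (5,3,31), (6,3,43), (4,4,17), (5,4,13), (6,4,37), (7,4,25), (8,4,65), (2,5,31), (3,5,121), (6,6,31), (7,6,43), (8,6,19), (9,6,73), (10,6,91), (11,6,37), (2,7,127), (3,7,1093), (3,8,41), (4,8,257), (2,9,73), (3,9,757), (3,10,61), (4,10,41), (5,10,521), (2,11,2047), (3,12,73), (4,12,241), (5,12,601), (2,13,8191), (2,14,43), (3,14,547), (2,15,151), (3,15,4561), (2,16,257), (3,16,3281), (2,17,131071), (3,18,703), (4,18,4033), (2,19,524287), (3,20,1181), (2,21,337), (2,22,683), (3,22,44287), (2,24,241), (3,24,6481), (2,25,1082401), (2,26,2731), (2,27,262657), (2,28,3277), (2,30,331), (3,30,8401), (2,32,65537), (2,33,599479), (2,34,43691), (2,36,4033), (2,38,174763), (2,39,9588151), (2,40,61681), (2,42,5419), (3,42,97567), (2,44,838861), (2,45,14709241), (2,46,2796203), (2,48,65281), (2,50,1016801), (2,52,13421773), (2,54,87211), (2,56,15790321), (2,60,80581), (2,66,1397419), (2,70,24214051), (2,72,16773121), (2,78,22366891),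 (2,84,20647621), (2,90,18837001)]

/-- The degrees of small totient, with the totient. -/
def smallT : List (ℕ × ℕ) := [(3,2), (4,2), (5,4), (6,2), (7,6), (8,4), (9,6), (10,4), (11,10), (12,4), (13,12), (14,6), (15,8), (16,8), (17,16), (18,6), (19,18), (20,8), (21,12), (22,10), (23,22), (24,8), (25,20), (26,12), (27,18), (28,12), (29,28), (30,8), (31,30), (32,16), (33,20), (34,16), (35,24), (36,12), (37,36), (38,18), (39,24), (40,16), (41,40), (42,12), (43,42), (44,20), (45,24), (46,22), (47,46), (48,16), (49,42), (50,20), (51,32), (52,24), (53,52), (54,18), (55,40), (56,24), (57,36), (58,28), (60,16), (62,30), (63,36), (64,32), (65,48), (66,20), (68,32), (69,44), (70,24), (72,24), (74,36), (75,40), (76,36), (78,24), (80,32), (82,40), (84,24), (86,42), (88,40), (90,24), (92,44), (94,46), (96,32), (98,42), (100,40), (102,32), (104,48), (105,48), (106,52), (108,36), (110,40), (112,48), (114,36), (120,32), (126,36), (130,48), (132,40), (138,44), (140,48), (144,48), (150,40), (156,48), (168,48), (180,48), (210,48)]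

/-- Validity of a row. -/
def rowOK (r : ℕ × ℕ × ℕ) : Bool :=
  decide (r.2.2 ∣ r.1 ^ r.2.1 - 1) &&
    (List.range r.2.1).all (fun i => i == 0 || Nat.gcd r.2.2 (r.1 ^ i - 1) == 1) &&
      decide (3 * r.2.1 + 1 ≤ r.2.2)

theorem table_ok : table.all rowOK = true := by decide +kernel

theorem table_prim {q e m : ℕ} (h : (q, e, m) ∈ table) : IsPrimDiv q e m ∧ 3 * e + 1 ≤ m := by
  have h1 := List.all_eq_true.1 table_ok _ h
  simp only [rowOK, Bool.and_eq_true, decide_eq_true_eq, List.all_eq_true, List.mem_range,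
    Bool.or_eq_true, beq_iff_eq] at h1
  obtain ⟨⟨h2, h3⟩, h4⟩ := h1
  refine ⟨⟨h2, ?_⟩, h4⟩
  intro i hi1 hie
  rcases h3 i hie with h5 | h5
  · omega
  · exact h5

/-- The pair `(q, e)` with totient `f` is fine. -/
def goodPair (q e f : ℕ) : Bool :=
  (if q = 2 then decide ((e * (3 * e + 1)) ^ 2 ≤ 2 ^ f) else decide (e * (3 * e + 1) ≤ (q - 1) ^ f)) ||
    decide ((q, e) ∈ L13) || table.any (fun r => r.1 == q && r.2.1 == e)

theorem box : smallT.all (fun x => (List.range (2 * x.1 + 2)).all
    (fun q => decide (q < 2) || goodPair q x.1 x.2)) = true := by decide +kernel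

theorem totient_small : (List.range 300).all (fun e => decide (e < 3) || decide (54 ≤ Nat.totient e) ||
    decide ((e, Nat.totient e) ∈ smallT)) = true := by decide +kernel

theorem pp_nodup : pp.Nodup := by decide +kernel

theorem pp_lt : pp.all (fun a => decide (a < 300)) = true := by decide +kernel

theorem totient_ge_of_mid {e : ℕ} (h1 : 300 ≤ e) (h2 : e < 5619) : 54 ≤ e.totient := by
  have h3 := List.all_eq_true.1 totient_mid e (by
    rw [List.mem_range'_1]
    omega)
  simp only [decide_eq_true_eq] at h3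
  refine h3.trans ?_
  rw [Nat.totient]
  have h4 : (pp.filter (Nat.Coprime e)).length = (pp.toFinset.filter (Nat.Coprime e)).card := by
    rw [← List.toFinset_card_of_nodup (pp_nodup.filter _)]
    congr 1
    ext a
    simp
  rw [h4]
  apply Finset.card_le_card
  intro a ha
  rw [Finset.mem_filter, List.mem_toFinset] at ha
  rw [Finset.mem_filter, Finset.mem_range]
  have h5 := List.all_eq_true.1 pp_lt a ha.1
  simp only [decide_eq_true_eq] at h5
  exact ⟨by omega, ha.2⟩

theorem totient_ge_of_large {e : ℕ} (h1 : 5619 ≤ e) : 54 ≤ e.totient := by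
  have h2 := le_two_mul_totient_sq (n := e) (by omega)
  by_contra h3
  have h4 : e.totient ≤ 53 := by omega
  have h5 : e.totient ^ 2 ≤ 53 ^ 2 := Nat.pow_le_pow_left h4 2
  omega

/-- The core theorem: a primitive divisor `m ≥ 3 e + 1` outside the thirteen pairs. -/
theorem core {q e : ℕ} (hq : 2 ≤ q) (he : 3 ≤ e) (h : (q, e) ∉ L13) :
    ∃ m, IsPrimDiv q e m ∧ 3 * e + 1 ≤ m := by
  by_cases hf : 54 ≤ e.totient
  · exact exists_of_phi_large hq he (phi_large_of_totient hq he hf)
  have he300 : e < 300 := by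
    by_contra h1
    rcases (by omega : e < 5619 ∨ 5619 ≤ e) with h2 | h2
    · exact hf (totient_ge_of_mid (by omega) h2)
    · exact hf (totient_ge_of_large h2)
  have h1 := List.all_eq_true.1 totient_small e (List.mem_range.2 he300)
  simp only [Bool.or_eq_true, decide_eq_true_eq] at h1
  have hmem : (e, e.totient) ∈ smallT := by
    rcases h1 with (h1 | h1) | h1
    · omega
    · exact absurd h1 hf
    · exact h1
  have hpos : 2 ≤ e.totient := by
    have h2 := Nat.totient_even (n := e) (by omega)
    have h3 : 0 < e.totient := Nat.totient_pos.2 (by omega)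
    obtain ⟨t, ht⟩ := h2
    omega
  by_cases hq2 : 2 * e + 2 ≤ q
  · apply exists_of_phi_large hq he
    have h2 := sub_one_pow_lt_phi (q := q) he hq
    refine le_trans ?_ h2.le
    have h3 : (q - 1) ^ 2 ≤ (q - 1) ^ e.totient := Nat.pow_le_pow_right (by omega) hpos
    refine le_trans ?_ h3
    have h4 : 2 * e + 1 ≤ q - 1 := by omega
    have h5 := Nat.pow_le_pow_left h4 2
    refine le_trans ?_ h5
    nlinarith
  · have h2 := List.all_eq_true.1 box _ hmem
    have h3 := List.all_eq_true.1 h2 q (List.mem_range.2 (by simpa using (by omega : q < 2 * e + 2)))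
    simp only [Bool.or_eq_true, decide_eq_true_eq] at h3
    rcases h3 with h3 | h3
    · omega
    simp only [goodPair, Bool.or_eq_true, decide_eq_true_eq] at h3
    rcases h3 with (h3 | h3) | h3
    · by_cases hq2' : q = 2
      · subst hq2'
        simp only [if_true, decide_eq_true_eq] at h3
        apply exists_of_phi_large hq he
        have h4 := two_pow_totient_le he
        exact (Nat.pow_le_pow_iff_left (by norm_num)).1 (h3.trans h4)
      · rw [if_neg hq2', decide_eq_true_eq] at h3
        exact exists_of_phi_large hq he (h3.trans (sub_one_pow_lt_phi he hq).le)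
    · exact absurd h3 h
    · rw [List.any_eq_true] at h3
      obtain ⟨⟨q', e', m⟩, hr, hq'⟩ := h3
      simp only [Bool.and_eq_true, beq_iff_eq] at hq'
      obtain ⟨rfl, rfl⟩ := hq'
      exact ⟨m, table_prim hr⟩

/-- A divisor coprime to the lower parts divides the explicit primitive part. -/
theorem dvd_of_split {q e a b m : ℕ} (h1 : q ^ e - 1 = a * b)
    (h2 : a ∣ ∏ i ∈ Finset.Ico 1 e, (q ^ i - 1)) (hm : IsPrimDiv q e m) : m ∣ b := by
  obtain ⟨hm1, hm2⟩ := hm
  have h3 : Nat.Coprime m (∏ i ∈ Finset.Ico 1 e, (q ^ i - 1)) := by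
    apply Nat.Coprime.prod_right
    intro i hi
    rw [Finset.mem_Ico] at hi
    exact hm2 i hi.1 hi.2
  have h4 : Nat.Coprime m a := Nat.Coprime.coprime_dvd_right h2 h3
  rw [h1] at hm1
  exact h4.dvd_of_dvd_mul_left hm1

end Cfsg.Agent.Lib.Zsig.PrimCore
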