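import Cfsg.Agent.Lib.Classical.Spectra.Ppd

/-!
# Lower bounds for the primitive part of `q ^ e - 1`

`IsPrimDiv q e m`: `m` divides `q ^ e - 1` and is coprime to `q ^ i - 1` for `1 ≤ i < e`.
If `Φ_e(q) ≥ e * T`, there is a primitive divisor `m ≥ T`.
-/

set_option autoImplicit false

namespace Cfsg.Agent.Lib.Zsig.PrimPart

open Polynomial
open Cfsg.Agent.Lib.Classical.Spectra.Ppd

/-- Primitive divisors of `q ^ e - 1`. -/
def IsPrimDiv (q e m : ℕ) : Prop :=
  m ∣ q ^ e - 1 ∧ ∀ i : ℕ, 1 ≤ i → i < e → Nat.Coprime m (q ^ i - 1)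

theorem phi_dvd {q e : ℕ} (he : 3 ≤ e) (hq : 2 ≤ q) : phi e q ∣ q ^ e - 1 := by
  have h1 := Polynomial.eval_dvd (x := (q : ℤ)) (Polynomial.cyclotomic.dvd_X_pow_sub_one e ℤ)
  simp only [eval_sub, eval_pow, eval_X, eval_one] at h1
  rw [← phi_cast (by omega)] at h1
  have h2 : 1 ≤ q ^ e := Nat.one_le_pow _ _ (by omega)
  have h3 : ((q ^ e - 1 : ℕ) : ℤ) = (q : ℤ) ^ e - 1 := by
    rw [Nat.cast_sub h2]; push_cast; ring
  rw [← h3] at h1
  exact_mod_cast h1

theorem phi_pos {q e : ℕ} (he : 3 ≤ e) : 0 < phi e q := by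
  have h1 := phi_cast (m := e) (q := q) (by omega)
  have h2 := Polynomial.cyclotomic_pos (n := e) (by omega) (q : ℤ)
  rw [← h1] at h2
  exact_mod_cast h2

/-- A prime dividing the primitive part is primitive. -/
theorem not_dvd_of_prim {q e p i : ℕ} (he : 3 ≤ e) (hp : p.Prime) (hpφ : p ∣ phi e q)
    (hpe : ¬ p ∣ e) (hi1 : 1 ≤ i) (hie : i < e) (hq : 2 ≤ q) : ¬ p ∣ q ^ i - 1 := by
  intro h
  have : Fact p.Prime := ⟨hp⟩
  have h1 := primitive_of_dvd (m := e) (q := q) (r := p) (k := 0) (m' := e) (by omega) (by simp) hpe hpφ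
  have h2 : ((q : ZMod p)) ^ i = 1 := by
    have h4 : 1 ≤ q ^ i := Nat.one_le_pow _ _ (by omega)
    have h5 := (ZMod.natCast_eq_zero_iff (q ^ i - 1) p).2 h
    rw [Nat.cast_sub h4] at h5
    push_cast at h5
    exact sub_eq_zero.1 h5
  have h3 := h1.dvd_of_pow_eq_one i h2
  have := Nat.le_of_dvd (by omega) h3
  omega

/-- The main step: a large value of the cyclotomic polynomial gives a large primitive divisor. -/
theorem exists_of_phi_large {q e T : ℕ} (hq : 2 ≤ q) (he : 3 ≤ e) (h : e * T ≤ phi e q) :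
    ∃ m, IsPrimDiv q e m ∧ T ≤ m := by
  have hN0 := phi_pos (q := q) he
  -- the coprimality criterion
  have key : ∀ m, m ∣ phi e q → (∀ p : ℕ, p.Prime → p ∣ m → ¬ p ∣ e) → IsPrimDiv q e m := by
    intro m hm hno
    refine ⟨hm.trans (phi_dvd he hq), ?_⟩
    intro i hi1 hie
    apply Nat.coprime_of_dvd
    intro p hp hpm hpq
    exact not_dvd_of_prim he hp (hpm.trans hm) (hno p hp hpm) hi1 hie hq hpq
  by_cases hex : ∃ r : ℕ, r.Prime ∧ r ∣ phi e q ∧ r ∣ e
  · obtain ⟨r, hr, hrN, hre⟩ := hex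
    obtain ⟨m, hm⟩ := hrN
    refine ⟨m, key m ⟨r, by rw [hm, mul_comm]⟩ ?_, ?_⟩
    · intro p hp hpm hpe
      have hpN : p ∣ phi e q := by rw [hm]; exact Dvd.dvd.mul_left hpm r
      have hpr : p = r := by
        by_contra hne
        have h1 := lt_of_dvd hr hp (by omega) (hm ▸ Dvd.intro _ rfl) hpe hne
        have h2 := lt_of_dvd hp hr (by omega) hpN hre (Ne.symm hne)
        omega
      subst hpr
      have hsq : p ^ 2 ∣ phi e q := by
        rw [hm, pow_two]
        exact mul_dvd_mul_left p hpm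
      exact not_sq_dvd hp (by omega) hq (Dvd.intro _ hm.symm) hre hsq
    · have hrle : r ≤ e := Nat.le_of_dvd (by omega) hre
      have h1 : r * T ≤ r * m := by
        calc r * T ≤ e * T := Nat.mul_le_mul_right _ hrle
          _ ≤ phi e q := h
          _ = r * m := hm
      exact Nat.le_of_mul_le_mul_left h1 hr.pos
  · push Not at hex
    refine ⟨phi e q, key _ dvd_rfl (fun p hp hpm hpe => hex p hp hpm hpe), ?_⟩
    calc T ≤ e * T := Nat.le_mul_of_pos_left _ (by omega)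
      _ ≤ phi e q := h

theorem sub_one_pow_lt_phi {q e : ℕ} (he : 3 ≤ e) (hq : 2 ≤ q) : (q - 1) ^ e.totient < phi e q :=
  Polynomial.sub_one_pow_totient_lt_natAbs_cyclotomic_eval (by omega) (by omega)

/-- `Φ_d(2) ≤ 3 ^ φ(d)`. -/
theorem phi_two_le (d : ℕ) : (eval (2 : ℤ) (cyclotomic d ℤ)).natAbs ≤ 3 ^ d.totient := by
  have h1 := cyclotomic_eval_le_add_one_pow_totient (q := (2 : ℝ)) (by norm_num) d
  have h2 := cyclotomic.eval_apply (2 : ℤ) d (Int.castRingHom ℝ)
  simp only [eq_intCast, Int.cast_ofNat] at h2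
  have h3 : (0 : ℝ) ≤ eval 2 (cyclotomic d ℝ) := cyclotomic_nonneg d (by norm_num)
  have h4 : (((eval (2 : ℤ) (cyclotomic d ℤ)).natAbs : ℕ) : ℝ) = eval 2 (cyclotomic d ℝ) := by
    rw [Nat.cast_natAbs, h2]
    simp only [Int.cast_abs]
    rw [← h2]
    exact abs_of_nonneg h3
  have h5 : (((eval (2 : ℤ) (cyclotomic d ℤ)).natAbs : ℕ) : ℝ) ≤ ((3 ^ d.totient : ℕ) : ℝ) := by
    rw [h4]
    push_cast
    refine h1.trans_eq ?_
    norm_num
  exact_mod_cast h5

/-- The lower bound at `q = 2`: `2 ^ φ(e) ≤ Φ_e(2) ^ 2`. -/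
theorem two_pow_totient_le {e : ℕ} (he : 3 ≤ e) : 2 ^ e.totient ≤ (phi e 2) ^ 2 := by
  -- choose a suitable prime
  obtain ⟨r, m, hr, rfl, hcase⟩ : ∃ r m : ℕ, r.Prime ∧ e = r * m ∧ (r ∣ m ∨ 3 ≤ r) := by
    by_cases hodd : ∃ r : ℕ, r.Prime ∧ r ∣ e ∧ r ≠ 2
    · obtain ⟨r, hr, ⟨m, hm⟩, hr2⟩ := hodd
      refine ⟨r, m, hr, hm, Or.inr ?_⟩
      have := hr.two_le
      omega
    · push Not at hodd
      have h2 : 2 ∣ e := by
        have := hodd e.minFac (Nat.minFac_prime (by omega)) (Nat.minFac_dvd e)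
        rw [← this]
        exact Nat.minFac_dvd e
      obtain ⟨m, hm⟩ := h2
      refine ⟨2, m, Nat.prime_two, hm, Or.inl ?_⟩
      have hm1 : m ≠ 1 := by
        rintro rfl
        omega
      have := hodd m.minFac (Nat.minFac_prime hm1) ((Nat.minFac_dvd m).trans ⟨2, by rw [hm, mul_comm]⟩)
      rw [← this]
      exact Nat.minFac_dvd m
  have hm0 : 0 < m := by
    rcases Nat.eq_zero_or_pos m with rfl | h
    · simp at he
    · exact h
  have hrm2 : 2 ≤ r := hr.two_le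
  by_cases hrm : r ∣ m
  · -- `Φ_{mr}(x) = Φ_m(x^r)`
    have hm1 : 1 < m := by
      have := Nat.le_of_dvd hm0 hrm
      omega
    have hexp := congrArg (Polynomial.eval (2 : ℤ))
      (Polynomial.cyclotomic_expand_eq_cyclotomic hr hrm ℤ)
    rw [Polynomial.expand_eval] at hexp
    have h1 : phi (r * m) 2 = (eval ((2 ^ r : ℕ) : ℤ) (cyclotomic m ℤ)).natAbs := by
      rw [phi, mul_comm r m]
      push_cast
      rw [← hexp]
    have hq : (2 ^ r : ℕ) ≠ 1 := by
      have : 1 < 2 ^ r := Nat.one_lt_two_pow (by omega)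
      omega
    have h2 := Polynomial.sub_one_pow_totient_lt_natAbs_cyclotomic_eval (n := m) (q := 2 ^ r) hm1 hq
    rw [← h1] at h2
    have h3 : 2 ^ (r - 1) ≤ 2 ^ r - 1 := by
      have h4 : 2 ^ r = 2 * 2 ^ (r - 1) := by
        rw [← pow_succ']; congr 1; omega
      have h5 : 1 ≤ 2 ^ (r - 1) := Nat.one_le_two_pow
      omega
    have h4 : (2 ^ (r - 1)) ^ m.totient ≤ phi (r * m) 2 :=
      (Nat.pow_le_pow_left h3 _).trans h2.le
    calc 2 ^ (r * m).totient = 2 ^ (r * m.totient) := by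
          rw [Nat.totient_mul_of_prime_of_dvd hr hrm]
      _ ≤ 2 ^ (2 * ((r - 1) * m.totient)) := by
          apply Nat.pow_le_pow_right (by norm_num)
          have : r ≤ 2 * (r - 1) := by omega
          calc r * m.totient ≤ 2 * (r - 1) * m.totient := Nat.mul_le_mul_right _ this
            _ = 2 * ((r - 1) * m.totient) := by ring
      _ = ((2 ^ (r - 1)) ^ m.totient) ^ 2 := by
          rw [← pow_mul, ← pow_mul]; congr 1; ring
      _ ≤ (phi (r * m) 2) ^ 2 := Nat.pow_le_pow_left h4 2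
  · have hr3 : 3 ≤ r := hcase.resolve_left hrm
    have hexp := congrArg (Polynomial.eval (2 : ℤ))
      (Polynomial.cyclotomic_expand_eq_cyclotomic_mul hr hrm ℤ)
    rw [Polynomial.expand_eval, Polynomial.eval_mul] at hexp
    have hexpabs := congrArg Int.natAbs hexp
    rw [Int.natAbs_mul] at hexpabs
    have hphi : (eval (2 : ℤ) (cyclotomic (m * r) ℤ)).natAbs = phi (r * m) 2 := by
      rw [phi, mul_comm r m]
      simp
    rw [hphi] at hexpabs
    have hup := phi_two_le m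
    -- lower bound for `Φ_m(2^r)`
    have hlow : (2 ^ r - 1) ^ m.totient ≤ (eval ((2 : ℤ) ^ r) (cyclotomic m ℤ)).natAbs := by
      rcases (by omega : m = 1 ∨ 1 < m) with rfl | hm1
      · simp only [Nat.totient_one, pow_one, cyclotomic_one, eval_sub, eval_X, eval_one]
        have h5 : 1 ≤ 2 ^ r := Nat.one_le_two_pow
        zify [h5]
        rw [abs_of_nonneg]
        have h6 : (1 : ℤ) ≤ 2 ^ r := by exact_mod_cast h5
        omega
      · have hq : (2 ^ r : ℕ) ≠ 1 := by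
          have : 1 < 2 ^ r := Nat.one_lt_two_pow (by omega)
          omega
        have h2 := Polynomial.sub_one_pow_totient_lt_natAbs_cyclotomic_eval (n := m) (q := 2 ^ r) hm1 hq
        push_cast at h2
        exact h2.le
    have h3 : 3 * 2 ^ (r - 2) ≤ 2 ^ r - 1 := by
      have h4 : 2 ^ r = 4 * 2 ^ (r - 2) := by
        rw [show (4 : ℕ) = 2 ^ 2 by norm_num, ← pow_add]; congr 1; omega
      have h5 : 1 ≤ 2 ^ (r - 2) := Nat.one_le_two_pow
      omega
    have h4 : 3 ^ m.totient * (2 ^ (r - 2)) ^ m.totient ≤ 3 ^ m.totient * phi (r * m) 2 := by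
      rw [← mul_pow]
      calc (3 * 2 ^ (r - 2)) ^ m.totient ≤ (2 ^ r - 1) ^ m.totient := Nat.pow_le_pow_left h3 _
        _ ≤ _ := hlow
        _ = phi (r * m) 2 * (eval (2 : ℤ) (cyclotomic m ℤ)).natAbs := hexpabs
        _ ≤ phi (r * m) 2 * 3 ^ m.totient := Nat.mul_le_mul_left _ hup
        _ = 3 ^ m.totient * phi (r * m) 2 := mul_comm _ _
    have h5 : (2 ^ (r - 2)) ^ m.totient ≤ phi (r * m) 2 :=
      Nat.le_of_mul_le_mul_left h4 (pow_pos (by norm_num) _)
    calc 2 ^ (r * m).totient = 2 ^ ((r - 1) * m.totient) := by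
          rw [Nat.totient_mul_of_prime_of_not_dvd hr hrm]
      _ ≤ 2 ^ (2 * ((r - 2) * m.totient)) := by
          apply Nat.pow_le_pow_right (by norm_num)
          have : r - 1 ≤ 2 * (r - 2) := by omega
          calc (r - 1) * m.totient ≤ 2 * (r - 2) * m.totient := Nat.mul_le_mul_right _ this
            _ = 2 * ((r - 2) * m.totient) := by ring
      _ = ((2 ^ (r - 2)) ^ m.totient) ^ 2 := by
          rw [← pow_mul, ← pow_mul]; congr 1; ring
      _ ≤ (phi (r * m) 2) ^ 2 := Nat.pow_le_pow_left h5 2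

/-! ### Lower bound for the totient -/

theorem le_totient_sq_of_odd : ∀ n : ℕ, Odd n → n ≤ n.totient ^ 2 := by
  intro n
  induction n using Nat.recOnPosPrimePosCoprime with
  | prime_pow p k hp hk =>
    intro hodd
    have hp3 : 3 ≤ p := by
      have hpo : Odd p := by
        rcases Nat.even_or_odd p with h | h
        · have := (Nat.even_pow.2 ⟨h, hk.ne'⟩)
          exact absurd hodd (Nat.not_odd_iff_even.2 this)
        · exact h
      have := hp.two_le
      obtain ⟨t, ht⟩ := hpo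
      omega
    rw [Nat.totient_prime_pow hp hk]
    obtain ⟨k', rfl⟩ : ∃ k', k = k' + 1 := ⟨k - 1, by omega⟩
    simp only [Nat.add_sub_cancel]
    have h1 : p ≤ (p - 1) ^ 2 := by
      obtain ⟨c, rfl⟩ : ∃ c, p = c + 3 := ⟨p - 3, by omega⟩
      simp only [show c + 3 - 1 = c + 2 by omega]
      nlinarith
    have h2 : p ^ k' ≤ (p ^ k') ^ 2 := by
      have : 1 ≤ p ^ k' := Nat.one_le_pow _ _ (by omega)
      nlinarith
    calc p ^ (k' + 1) = p ^ k' * p := pow_succ _ _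
      _ ≤ (p ^ k') ^ 2 * (p - 1) ^ 2 := Nat.mul_le_mul h2 h1
      _ = (p ^ k' * (p - 1)) ^ 2 := by ring
  | zero => intro h; simp at h
  | one => intro _; simp
  | coprime a b _ _ hab ha hb =>
    intro hodd
    rw [Nat.totient_mul hab, mul_pow]
    have hoa := (Nat.odd_mul.1 hodd).1
    have hob := (Nat.odd_mul.1 hodd).2
    exact Nat.mul_le_mul (ha hoa) (hb hob)

theorem le_two_mul_totient_sq {n : ℕ} (hn : 0 < n) : n ≤ 2 * n.totient ^ 2 := by
  obtain ⟨a, b, hb, rfl⟩ := Nat.exists_eq_two_pow_mul_odd hn.ne'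
  have hcop : Nat.Coprime (2 ^ a) b := Nat.Coprime.pow_left _ (Nat.coprime_two_left.2 hb)
  rw [Nat.totient_mul hcop, mul_pow]
  have h1 := le_totient_sq_of_odd b hb
  have h2 : 2 ^ a ≤ 2 * (2 ^ a).totient ^ 2 := by
    rcases Nat.eq_zero_or_pos a with rfl | ha
    · simp
    · rw [Nat.totient_prime_pow Nat.prime_two ha]
      obtain ⟨a', rfl⟩ : ∃ a', a = a' + 1 := ⟨a - 1, by omega⟩
      simp only [Nat.add_sub_cancel, show 2 - 1 = 1 from rfl, mul_one]
      have : 1 ≤ 2 ^ a' := Nat.one_le_two_pow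
      rw [pow_succ]
      nlinarith
  exact (Nat.mul_le_mul h2 h1).trans (le_of_eq (by ring))

theorem pow_eight_bound : ∀ f : ℕ, 54 ≤ f → 196 * f ^ 8 ≤ 2 ^ f := by
  intro f hf
  induction f, hf using Nat.le_induction with
  | base => norm_num
  | succ f hf ih =>
    have h1 : (f + 1) ^ 8 ≤ 2 * f ^ 8 := by
      have h2 : 12 * (f + 1) ≤ 13 * f := by omega
      have h3 := Nat.pow_le_pow_left h2 8
      rw [mul_pow, mul_pow] at h3
      have h4 : 12 ^ 8 * (f + 1) ^ 8 ≤ 12 ^ 8 * (2 * f ^ 8) := by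
        refine h3.trans ?_
        have : 0 ≤ f ^ 8 := Nat.zero_le _
        norm_num
        omega
      exact Nat.le_of_mul_le_mul_left h4 (by norm_num)
    calc 196 * (f + 1) ^ 8 ≤ 196 * (2 * f ^ 8) := Nat.mul_le_mul_left _ h1
      _ = 2 * (196 * f ^ 8) := by ring
      _ ≤ 2 * 2 ^ f := Nat.mul_le_mul_left _ ih
      _ = 2 ^ (f + 1) := by rw [pow_succ]; ring

/-- Large totient gives a large value at every `q ≥ 2`. -/
theorem phi_large_of_totient {q e : ℕ} (hq : 2 ≤ q) (he : 3 ≤ e) (hf : 54 ≤ e.totient) :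
    e * (3 * e + 1) ≤ phi e q := by
  set f := e.totient with hfdef
  have h1 : e ≤ 2 * f ^ 2 := le_two_mul_totient_sq (by omega)
  have h2 : (e * (3 * e + 1)) ^ 2 ≤ 2 ^ f := by
    have h3 : e * (3 * e + 1) ≤ 14 * f ^ 4 := by
      have h4 : 1 ≤ f ^ 2 := Nat.one_le_pow _ _ (by omega)
      have h5 : 3 * e + 1 ≤ 7 * f ^ 2 := by omega
      calc e * (3 * e + 1) ≤ (2 * f ^ 2) * (7 * f ^ 2) := Nat.mul_le_mul h1 h5
        _ = 14 * f ^ 4 := by ring
    calc (e * (3 * e + 1)) ^ 2 ≤ (14 * f ^ 4) ^ 2 := Nat.pow_le_pow_left h3 2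
      _ = 196 * f ^ 8 := by ring
      _ ≤ 2 ^ f := pow_eight_bound f hf
  have h6 : 2 ^ f ≤ (phi e q) ^ 2 := by
    rcases (by omega : q = 2 ∨ 3 ≤ q) with rfl | hq3
    · exact two_pow_totient_le he
    · have h7 := sub_one_pow_lt_phi (q := q) he hq
      have h8 : 2 ^ f ≤ (q - 1) ^ f := Nat.pow_le_pow_left (by omega) _
      have h9 : 2 ^ f ≤ phi e q := h8.trans h7.le
      have h10 : 0 < phi e q := phi_pos he
      nlinarith
  exact (Nat.pow_le_pow_iff_left (by norm_num)).1 (h2.trans h6)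

end Cfsg.Agent.Lib.Zsig.PrimPart
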